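import Groth.Agent.H19Grp.PointsEq
import Mathlib

/-!
# Rational points of schemes over an algebraically closed field
-/

set_option autoImplicit false
set_option linter.style.haveILetI false
set_option backward.isDefEq.respectTransparency false

universe u

open CategoryTheory CategoryTheory.Limits MonoidalCategory CartesianMonoidalCategory MonObj GrpObj
  AlgebraicGeometry

namespace Groth.Agent.H26OneMot

/-- The base point. -/
noncomputable abbrev pt (k : Type u) [Field k] : Over (Spec (CommRingCat.of k)) := Over.mk (𝟙 (Spec (CommRingCat.of k)))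

variable {k : Type u} [Field k] [IsAlgClosed k] {X Y G H : Over (Spec (CommRingCat.of k))}

/-- The point under a rational point. -/
noncomputable abbrev ptOf (a : pt k ⟶ X) : X.left := a.left (IsLocalRing.closedPoint k)

theorem ptOf_comp (a : pt k ⟶ X) (f : X ⟶ Y) : ptOf (a ≫ f) = f.left (ptOf a) := rfl

theorem eq_of_ptOf_eq [LocallyOfFiniteType X.hom] {a b : pt k ⟶ X} (h : ptOf a = ptOf b) : a = b :=
  Over.OverMorphism.ext (ext_of_apply_closedPoint_eq X.hom (Over.w a) (Over.w b) h)

theorem exists_ptOf_eq [LocallyOfFiniteType X.hom] {x : X.left} (hx : IsClosed {x}) :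
    ∃ a : pt k ⟶ X, ptOf a = x :=
  ⟨Over.homMk (pointOfClosedPoint X.hom x hx) (pointOfClosedPoint_comp _ _ _),
    pointOfClosedPoint_apply _ _ _ _⟩

theorem isClosed_ptOf [LocallyOfFiniteType X.hom] (a : pt k ⟶ X) : IsClosed {ptOf a} :=
  (pointEquivClosedPoint X.hom ⟨a.left, Over.w a⟩).2

/-- A locally closed set containing no rational point is empty. -/
theorem eq_empty_of_forall_ptOf [LocallyOfFiniteType X.hom] {Z : Set X.left} (hZ : IsLocallyClosed Z)
    (h : ∀ a : pt k ⟶ X, ptOf a ∉ Z) : Z = ∅ := by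
  haveI := LocallyOfFiniteType.jacobsonSpace X.hom
  by_contra hne
  obtain ⟨x, hx, hxc⟩ := nonempty_inter_closedPoints (Set.nonempty_iff_ne_empty.2 hne) hZ
  obtain ⟨a, rfl⟩ := exists_ptOf_eq hxc
  exact h a hx

theorem exists_lift_pt [LocallyOfFiniteType X.hom] [LocallyOfFiniteType Y.hom] (f : X ⟶ Y) [Surjective f.left]
    (b : pt k ⟶ Y) : ∃ a : pt k ⟶ X, a ≫ f = b := by
  by_contra hne
  push Not at hne
  have h0 : f.left ⁻¹' {ptOf b} = ∅ := eq_empty_of_forall_ptOf
    ((isClosed_ptOf b).preimage f.left.continuous).isLocallyClosed fun a ha =>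
    hne a (eq_of_ptOf_eq ((ptOf_comp a f).trans ha))
  obtain ⟨x, hx⟩ := f.left.surjective (ptOf b)
  exact h0.le (show x ∈ f.left ⁻¹' {ptOf b} from hx)

/-- Morphisms from a smooth scheme to a separated one agree when they agree on rational points. -/
theorem hom_ext_pt [Smooth X.hom] [IsSeparated Y.hom] {f g : X ⟶ Y}
    (h : ∀ a : pt k ⟶ X, a ≫ f = a ≫ g) : f = g := by
  refine H19Grp.PointsDense.hom_eq (K := k) f g fun w => ?_
  have e : Spec.map (CommRingCat.ofHom (algebraMap k k)) = 𝟙 _ := Spec.map_id _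
  let j : pt k ⟶ Over.mk (Spec.map (CommRingCat.ofHom (algebraMap k k))) :=
    Over.homMk (𝟙 _) (by rw [Category.id_comp]; exact e)
  have h2 := h (j ≫ w)
  rw [Category.assoc, Category.assoc] at h2
  refine Over.OverMorphism.ext ?_
  have h3 := congrArg (·.left) h2
  simpa [j] using h3

end Groth.Agent.H26OneMot
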