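import Groth.Prelude.Def_Red
import Groth.Prelude.Def_CGrpSh
import Groth.Agent.H19Grp.PtsDescend
import Groth.Agent.H18Torsor.Basic

/-!
# The quotient map of a short exact sequence of sheaves of points

For an exact sequence `0 → T → G → A → 0` of sheaves of points on the big fppf site, `T` is the scheme
kernel and `G ⟶ A` inherits every fpqc local property of `T ⟶ S`.
-/

set_option autoImplicit false
set_option linter.style.haveILetI false
set_option backward.isDefEq.respectTransparency false

universe u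

open CategoryTheory CategoryTheory.Limits MonoidalCategory CartesianMonoidalCategory MonObj GrpObj
  AlgebraicGeometry Opposite

namespace Groth.Agent.H26OneMot

variable {S : Scheme.{u}} {T G A : Over S} [GrpObj T] [IsCommMonObj T] [GrpObj G] [IsCommMonObj G]
  [GrpObj A] [IsCommMonObj A] {i : T ⟶ G} {q : G ⟶ A} [IsMonHom i] [IsMonHom q] {w : i ≫ q = 1}

/-- The first map of a short exact sequence of sheaves of points is injective on points. -/
theorem eq_of_comp_eq (h : (CGrpSh.seq Scheme.fppfPrecoverage i q w).ShortExact) {W : Over S}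
    {t t' : W ⟶ T} (e : t ≫ i = t' ≫ i) : t = t' := by
  haveI := h.mono_f
  haveI : Mono ((sheafToPresheaf _ AddCommGrpCat.{u + 1}).map (CGrpSh.seq Scheme.fppfPrecoverage i q w).f) :=
    inferInstance
  haveI hm : Mono ((CGrpSh.seq Scheme.fppfPrecoverage i q w).f.hom.app (op W)) :=
    inferInstanceAs (Mono (((sheafToPresheaf _ AddCommGrpCat.{u + 1}).map
      (CGrpSh.seq Scheme.fppfPrecoverage i q w).f).app (op W)))
  have h1 := (AddCommGrpCat.mono_iff_injective _).1 hm
    (a₁ := ULift.up (Additive.ofMul t)) (a₂ := ULift.up (Additive.ofMul t'))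
    (ULift.ext _ _ (congrArg Additive.ofMul e))
  exact congrArg (fun z => z.down.toMul) h1

/-- Points killed by the second map come from the first group. -/
theorem exists_pt_of_comp_eq_one (h : (CGrpSh.seq Scheme.fppfPrecoverage i q w).ShortExact) {W : Over S}
    (g : W ⟶ G) (hg : g ≫ q = 1) : ∃ t : W ⟶ T, t ≫ i = g := by
  obtain ⟨R, hR, hl⟩ := H19Grp.exists_local_lift_of_exact i q w h.exact g hg
  choose a ha using hl
  have hx : Presieve.FamilyOfElements.Compatible (P := yoneda.obj T) (R := R.arrows)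
      (fun W' t ht => a t ht) := by
    intro Y₁ Y₂ Z g₁ g₂ f₁ f₂ h₁ h₂ e
    refine eq_of_comp_eq h ?_
    show (g₁ ≫ a f₁ h₁) ≫ i = (g₂ ≫ a f₂ h₂) ≫ i
    rw [Category.assoc, Category.assoc, ha, ha, reassoc_of% e]
  have hsh := GrothendieckTopology.Subcanonical.isSheaf_of_isRepresentable
    (J := H19Grp.fppfJ S) (yoneda.obj T) R hR
  refine ⟨hsh.amalgamate _ hx, H19Grp.hom_ext_of_cover hR fun W' t ht => ?_⟩
  rw [← Category.assoc, show t ≫ hsh.amalgamate _ hx = a t ht from hsh.valid_glue hx t ht, ha]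

/-- The scheme `T` is the kernel of the quotient map. -/
theorem isKernel (h : (CGrpSh.seq Scheme.fppfPrecoverage i q w).ShortExact) : AlgGrp.IsKernel i q := by
  refine IsPullback.of_isLimit' ⟨by rw [w]; rfl⟩
    (PullbackCone.IsLimit.mk _ (fun s => (exists_pt_of_comp_eq_one h s.fst (by
      rw [s.condition, toUnit_unique s.snd (toUnit _)]; rfl)).choose)
      (fun s => (exists_pt_of_comp_eq_one h s.fst (by
        rw [s.condition, toUnit_unique s.snd (toUnit _)]; rfl)).choose_spec)
      (fun s => toUnit_unique _ _) fun s m hm _ => eq_of_comp_eq h (hm.trans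
        (exists_pt_of_comp_eq_one h s.fst (by
          rw [s.condition, toUnit_unique s.snd (toUnit _)]; rfl)).choose_spec.symm))

/-- Base change of the quotient map along a point with a given lift. -/
theorem isPullback_of_lift (h : (CGrpSh.seq Scheme.fppfPrecoverage i q w).ShortExact) {W : Over S}
    (g : W ⟶ G) (b : W ⟶ A) (hb : g ≫ q = b) :
    IsPullback ((fst T W ≫ i) * (snd T W ≫ g)) (snd T W) q b := by
  have hw : ((fst T W ≫ i) * (snd T W ≫ g)) ≫ q = snd T W ≫ b := by
    rw [MonObj.mul_comp, Category.assoc, Category.assoc, w, MonObj.comp_one, _root_.one_mul, hb]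
  have hex : ∀ s : PullbackCone q b, ∃ t : s.pt ⟶ T, t ≫ i = s.fst * (s.snd ≫ g)⁻¹ := fun s =>
    exists_pt_of_comp_eq_one h _ (by
      rw [MonObj.mul_comp, GrpObj.inv_comp, s.condition, Category.assoc, hb, mul_inv_cancel])
  choose t ht using hex
  refine IsPullback.of_isLimit' ⟨hw⟩ (PullbackCone.IsLimit.mk _ (fun s => lift (t s) s.snd)
    (fun s => ?_) (fun s => lift_snd _ _) fun s m hm₁ hm₂ => ?_)
  · rw [MonObj.comp_mul, lift_fst_assoc, lift_snd_assoc, ht, inv_mul_cancel_right]
  · refine CartesianMonoidalCategory.hom_ext _ _ ?_ (by rw [lift_snd]; exact hm₂)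
    rw [lift_fst]
    refine eq_of_comp_eq h ?_
    rw [ht, eq_mul_inv_iff_mul_eq, ← hm₁, MonObj.comp_mul]
    simp only [Category.assoc]
    rw [← Category.assoc m (snd T W) g]
    exact congrArg (fun z => m ≫ fst T W ≫ i * z ≫ g) hm₂.symm

/-- Properties local on the target for fpqc pass from `T ⟶ S` to the quotient map `G ⟶ A`. -/
theorem property_quotient (P : MorphismProperty Scheme.{u}) [P.IsStableUnderBaseChange]
    [IsZariskiLocalAtTarget P] [P.DescendsAlong Groth.Agent.H18Descent.fpqc]
    (h : (CGrpSh.seq Scheme.fppfPrecoverage i q w).ShortExact) (hT : P T.hom) : P q.left := by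
  haveI := h.epi_g
  obtain ⟨R, hR, hl⟩ := H19Grp.exists_local_lift_pt q (show Epi (CGrpSh.seq Scheme.fppfPrecoverage i q w).g from
    inferInstance) (𝟙 A)
  rw [GrothendieckTopology.mem_over_iff] at hR
  obtain ⟨R', hR', hle⟩ := Precoverage.mem_toGrothendieck_iff_of_isStableUnderComposition.1 hR
  have hsec : ∀ ⦃S' : Scheme.{u}⦄ (f : S' ⟶ A.left), R' f → ∃ s : S' ⟶ G.left, s ≫ q.left = f := by
    intro S' f hf
    have h1 := hle _ _ hf
    obtain ⟨a, ha⟩ := hl (Over.homMk f rfl : Over.mk (f ≫ A.hom) ⟶ A) ((Sieve.overEquiv_iff R f).1 h1)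
    refine ⟨a.left, ?_⟩
    simpa using congrArg (·.left) ha
  refine (IsZariskiLocalAtTarget.iff_of_iSup_eq_top (P := P) (fun U : A.left.affineOpens => U.1)
    (iSup_affineOpens_eq_top A.left)).mpr fun U => ?_
  obtain ⟨T', k, hk, hT'⟩ := H18Torsor.exists_refinement (R := R')
    (Scheme.fppfPrecoverage_le_fpqcPrecoverage _ hR') U.2
  obtain ⟨s, hs⟩ := hT' G.left q.left hsec
  let W : Over S := Over.mk ((k ≫ U.1.ι) ≫ A.hom)
  let g : W ⟶ G := Over.homMk s (by
    show s ≫ G.hom = _
    rw [← Over.w q, ← Category.assoc, hs]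
    rfl)
  have hpb := (isPullback_of_lift h g (Over.homMk (k ≫ U.1.ι) rfl : W ⟶ A)
    (Over.OverMorphism.ext hs)).map (Over.forget S)
  have h0 : P (pullback.snd T.hom W.hom) := MorphismProperty.pullback_snd _ _ hT
  have h1 : P (pullback.snd q.left (k ≫ U.1.ι)) := by
    have hpb' : IsPullback ((fst T W ≫ i) * (snd T W ≫ g)).left (snd T W).left q.left (k ≫ U.1.ι) := hpb
    rw [← hpb'.isoPullback_inv_snd, P.cancel_left_of_respectsIso]
    exact h0
  have hsq : IsPullback (pullback.fst k (q.left ∣_ U.1)) (pullback.snd k (q.left ∣_ U.1) ≫ (q.left ⁻¹ᵁ U.1).ι)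
      (k ≫ U.1.ι) q.left :=
    (IsPullback.of_hasPullback k (q.left ∣_ U.1)).paste_vert (isPullback_morphismRestrict q.left U.1)
  refine MorphismProperty.of_pullback_fst_of_descendsAlong (P := P) (Q := Groth.Agent.H18Descent.fpqc) hk ?_
  rw [← hsq.flip.isoPullback_hom_snd, P.cancel_left_of_respectsIso]
  exact h1

end Groth.Agent.H26OneMot
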