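import Groth.Agent.H21Dyn.Scheme
import Groth.Agent.S17450
import Mathlib

/-!
# Rational points of a torus over an algebraically closed field
-/

set_option autoImplicit false
set_option linter.style.haveILetI false
set_option backward.isDefEq.respectTransparency false

universe u

open CategoryTheory CategoryTheory.Limits MonoidalCategory CartesianMonoidalCategory MonObj GrpObj
  AlgebraicGeometry WithConv

namespace Groth.Agent.H26OneMot

variable {k : Type u} [Field k]

local notation "Lt" r => MonoidAlgebra k (Multiplicative (Fin r → ℤ))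

/-- The character group of `𝔾ₘ^r` evaluated at a tuple of units. -/
noncomputable def chr {r : ℕ} (x : Fin r → kˣ) : Multiplicative (Fin r → ℤ) →* k where
  toFun m := ((∏ i, x i ^ (m.toAdd i) : kˣ) : k)
  map_one' := by simp
  map_mul' m n := by simp [zpow_add, Finset.prod_mul_distrib]

/-- The algebra map attached to a tuple of units. -/
noncomputable def evalAt {r : ℕ} (x : Fin r → kˣ) : (Lt r) →ₐ[k] k :=
  MonoidAlgebra.lift k k _ (chr x)

theorem evalAt_single {r : ℕ} (x : Fin r → kˣ) (m : Multiplicative (Fin r → ℤ)) :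
    evalAt x (MonoidAlgebra.single m 1) = ((∏ i, x i ^ (m.toAdd i) : kˣ) : k) := by
  rw [evalAt, MonoidAlgebra.lift_single, one_smul]
  rfl

theorem convMul_single {r : ℕ} (f g : WithConv ((Lt r) →ₐ[k] k)) (m : Multiplicative (Fin r → ℤ)) :
    (f * g).ofConv (MonoidAlgebra.single m 1) =
      f.ofConv (MonoidAlgebra.single m 1) * g.ofConv (MonoidAlgebra.single m 1) := by
  rw [AlgHom.convMul_apply, (MonoidAlgebra.isGroupLikeElem_single_one m).comul_eq_tmul_self]
  simp

theorem ext_single {r : ℕ} {f g : WithConv ((Lt r) →ₐ[k] k)}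
    (h : ∀ m, f.ofConv (MonoidAlgebra.single m 1) = g.ofConv (MonoidAlgebra.single m 1)) : f = g :=
  WithConv.ofConv_injective (MonoidAlgebra.algHom_ext h (Subsingleton.elim _ _))

theorem one_single {r : ℕ} (m : Multiplicative (Fin r → ℤ)) :
    (1 : WithConv ((Lt r) →ₐ[k] k)).ofConv (MonoidAlgebra.single m 1) = 1 := by
  show algebraMap k k (CoalgebraStruct.counit (R := k) (MonoidAlgebra.single m (1 : k))) = 1
  rw [(MonoidAlgebra.isGroupLikeElem_single_one m).counit_eq_one, map_one]

/-- Tuples of units as rational points of the split torus. -/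
noncomputable def unitsHom (r : ℕ) : (Fin r → kˣ) →* WithConv ((Lt r) →ₐ[k] k) where
  toFun x := toConv (evalAt x)
  map_one' := ext_single fun m => by
    rw [one_single]
    show evalAt (1 : Fin r → kˣ) _ = 1
    rw [evalAt_single]
    simp
  map_mul' x y := ext_single fun m => by
    rw [convMul_single]
    show evalAt (x * y) _ = evalAt x _ * evalAt y _
    rw [evalAt_single, evalAt_single, evalAt_single, ← Units.val_mul, ← Finset.prod_mul_distrib]
    simp [mul_zpow]

theorem unitsHom_bijective (r : ℕ) : Function.Bijective (unitsHom (k := k) r) := by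
  refine ⟨?_, ?_⟩
  · intro x y h
    funext i
    have h1 : evalAt x (MonoidAlgebra.single (Multiplicative.ofAdd (Pi.single i 1)) 1) =
        evalAt y (MonoidAlgebra.single (Multiplicative.ofAdd (Pi.single i 1)) 1) :=
      congrArg (fun z : WithConv ((Lt r) →ₐ[k] k) =>
        z.ofConv (MonoidAlgebra.single (Multiplicative.ofAdd (Pi.single i 1)) 1)) h
    have h2 := Units.val_injective ((evalAt_single x _).symm.trans (h1.trans (evalAt_single y _)))
    rw [Finset.prod_eq_single i (fun j _ hj => by simp [hj]) (by simp),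
      Finset.prod_eq_single i (fun j _ hj => by simp [hj]) (by simp)] at h2
    simpa using h2
  · intro f
    let φ : Multiplicative (Fin r → ℤ) →* kˣ :=
      ((f.ofConv : (Lt r) →* k).comp (MonoidAlgebra.of k _)).toHomUnits
    refine ⟨fun i => φ (Multiplicative.ofAdd (Pi.single i 1)), ext_single fun m => ?_⟩
    show evalAt _ (MonoidAlgebra.single m 1) = _
    rw [evalAt_single]
    show _ = ((φ m : kˣ) : k)
    refine congrArg Units.val ?_
    simp only [← map_zpow, ← map_prod]
    refine congrArg φ (Multiplicative.toAdd.injective (funext fun j => ?_))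
    simp [toAdd_prod, toAdd_zpow, Finset.sum_apply, Pi.single_apply]

/-- Rational points of the split torus. -/
noncomputable def unitsEquiv (r : ℕ) : (Fin r → kˣ) ≃* WithConv ((Lt r) →ₐ[k] k) :=
  MulEquiv.ofBijective (unitsHom r) (unitsHom_bijective r)

/-- A nonzero Laurent polynomial does not vanish at some tuple of roots of unity. -/
theorem exists_torsion_evalAt_ne_zero [IsAlgClosed k] [CharZero k] {r : ℕ} {c : Lt r} (hc : c ≠ 0) :
    ∃ x : Fin r → kˣ, IsOfFinOrder x ∧ evalAt x c ≠ 0 := by
  classical
  let rts : Set k := {x | ∃ n : ℕ, 0 < n ∧ x ^ n = 1}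
  have hμ : rts.Infinite := by
    have hex : ∀ n : ℕ, ∃ z : k, IsPrimitiveRoot z (n + 1) := fun n => by
      haveI : NeZero ((n + 1 : ℕ) : k) := ⟨Nat.cast_ne_zero.2 (by omega)⟩
      exact HasEnoughRootsOfUnity.exists_primitiveRoot k (n + 1)
    choose z hz using hex
    refine (Set.infinite_range_of_injective (f := z) fun a b hab => ?_).mono ?_
    · have := (hz a).unique (hab ▸ hz b)
      omega
    · rintro _ ⟨n, rfl⟩
      exact ⟨n + 1, Nat.succ_pos _, (hz n).pow_eq_one⟩
  let N : ℕ := c.coeff.support.sup fun m => Finset.univ.sup fun i => (m.toAdd i).natAbs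
  let e : Multiplicative (Fin r → ℤ) → (Fin r →₀ ℕ) :=
    fun m => Finsupp.equivFunOnFinite.symm fun i => (m.toAdd i + N).toNat
  have hN : ∀ m ∈ c.coeff.support, ∀ i, 0 ≤ m.toAdd i + N := fun m hm i => by
    have h1 : (m.toAdd i).natAbs ≤ N :=
      le_trans (Finset.le_sup (f := fun i => (m.toAdd i).natAbs) (Finset.mem_univ i))
        (Finset.le_sup (f := fun m => Finset.univ.sup fun i => (m.toAdd i).natAbs) hm)
    omega
  let p : MvPolynomial (Fin r) k := ∑ m ∈ c.coeff.support, MvPolynomial.monomial (e m) (c.coeff m)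
  have hp : p ≠ 0 := by
    obtain ⟨m₀, hm₀⟩ := Finsupp.support_nonempty_iff.2 (show c.coeff ≠ 0 from fun h => hc (MonoidAlgebra.coeff_injective (h.trans MonoidAlgebra.coeff_zero.symm)))
    refine MvPolynomial.ne_zero_iff.2 ⟨e m₀, ?_⟩
    rw [MvPolynomial.coeff_sum, Finset.sum_eq_single m₀]
    · simpa using Finsupp.mem_support_iff.1 hm₀
    · intro m hm hne
      rw [MvPolynomial.coeff_monomial, if_neg]
      intro h
      refine hne (Multiplicative.toAdd.injective (funext fun i => ?_))
      have h3 : (m.toAdd i + N).toNat = (m₀.toAdd i + N).toNat := congr($h i)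
      have := hN m hm i
      have := hN m₀ hm₀ i
      omega
    · exact fun h => absurd hm₀ h
  by_contra hall
  push Not at hall
  refine hp (MvPolynomial.funext_set (fun _ => rts) (fun _ => hμ) fun y hy => ?_)
  rw [map_zero]
  choose n hn hn' using fun i => hy i (Set.mem_univ i)
  have hy0 : ∀ i, y i ≠ 0 := fun i h => by
    have := hn' i
    rw [h, zero_pow (hn i).ne'] at this
    exact zero_ne_one this
  let x : Fin r → kˣ := fun i => Units.mk0 (y i) (hy0 i)
  have hx : IsOfFinOrder x := by
    refine isOfFinOrder_iff_pow_eq_one.2 ⟨∏ i, n i, Finset.prod_pos fun i _ => hn i, funext fun i => ?_⟩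
    obtain ⟨d, hd⟩ := Finset.dvd_prod_of_mem n (Finset.mem_univ i)
    refine Units.ext ?_
    simp [x, hd, pow_mul, hn' i]
  have h0 := hall x hx
  have heval : MvPolynomial.eval y p = (∏ i, y i ^ N) * evalAt x c := by
    conv_rhs => rw [← MonoidAlgebra.sum_coeff_single c]
    rw [Finsupp.sum, map_sum (evalAt x), Finset.mul_sum, map_sum]
    refine Finset.sum_congr rfl fun m hm => ?_
    rw [MvPolynomial.eval_monomial, Finsupp.prod_fintype _ _ (fun i => pow_zero _),
      evalAt, MonoidAlgebra.lift_single, smul_eq_mul, mul_left_comm]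
    refine congrArg (c.coeff m * ·) ?_
    show _ = (∏ i, y i ^ N) * ((∏ i, x i ^ (m.toAdd i) : kˣ) : k)
    rw [Units.coe_prod, ← Finset.prod_mul_distrib]
    refine Finset.prod_congr rfl fun i _ => ?_
    rw [Units.val_zpow_eq_zpow_val, ← zpow_natCast (y i) N, show ((x i : kˣ) : k) = y i from rfl,
      ← zpow_add₀ (hy0 i), ← zpow_natCast (y i)]
    refine congrArg (y i ^ ·) ?_
    show (((m.toAdd i + N).toNat : ℕ) : ℤ) = (N : ℤ) + m.toAdd i
    have := hN m hm i
    omega
  rw [heval, h0, mul_zero]

end Groth.Agent.H26OneMot
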