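import Groth.Prelude.Def_OneMot
import Groth.Agent.H26OneMot.Torsor
import Groth.Agent.H26OneMot.TorusPts
import Groth.Agent.H26OneMot.Pts
import Groth.Agent.H19Grp.Cartier
import Groth.Agent.H19Grp.AlgClosedGeom
import Groth.Agent.H19Grp.AffineQuotient
import Groth.Agent.H25AbCube.Dense
import Groth.Agent.H25AbCube.TorsionStr
import Groth.Agent.H18Descent.Basic
import Groth.Agent.H13AlgSp.EtaleLocally
import Mathlib

/-!
# Semi-abelian varieties over an algebraically closed field of characteristic zero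
-/

set_option autoImplicit false
set_option maxHeartbeats 1000000
set_option linter.style.haveILetI false
set_option linter.unusedSectionVars false
set_option backward.isDefEq.respectTransparency false

universe u

open CategoryTheory CategoryTheory.Limits MonoidalCategory CartesianMonoidalCategory MonObj GrpObj
  AlgebraicGeometry WithConv

namespace Groth.Agent.H26OneMot

variable {k : Type u} [Field k] [IsAlgClosed k] [CharZero k] {T G A : Over (Spec (CommRingCat.of k))}
  [GrpObj T] [IsCommMonObj T] [GrpObj G] [IsCommMonObj G] [GrpObj A] [IsCommMonObj A]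
  {i : T ⟶ G} {q : G ⟶ A} [IsMonHom i] [IsMonHom q]

omit [CharZero k] in
theorem exists_torus_split (hT : Red.IsTorus T) :
    ∃ (r : ℕ) (e : (Spec (CommRingCat.of (MonoidAlgebra k (Multiplicative (Fin r → ℤ))))).asOver
      (Spec (CommRingCat.of k)) ≅ T), IsMonHom e.hom :=
  H21Dyn.exists_split_algClosed T hT

omit [CharZero k] in
theorem torus_affine (hT : Red.IsTorus T) : IsAffineHom T.hom ∧ LocallyOfFiniteType T.hom := by
  obtain ⟨r, e, -⟩ := exists_torus_split hT
  haveI : Algebra.FiniteType k (MonoidAlgebra k (Multiplicative (Fin r → ℤ))) :=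
    MonoidAlgebra.finiteType_iff_fg.2 inferInstance
  haveI : LocallyOfFiniteType (Spec.map (CommRingCat.ofHom
      (algebraMap k (MonoidAlgebra k (Multiplicative (Fin r → ℤ)))))) := by
    rw [HasRingHomProperty.Spec_iff (P := @LocallyOfFiniteType)]
    exact RingHom.finiteType_algebraMap.2 inferInstance
  haveI : IsAffineHom (Spec.map (CommRingCat.ofHom
      (algebraMap k (MonoidAlgebra k (Multiplicative (Fin r → ℤ)))))) := inferInstance
  haveI : IsIso e.inv.left := ((Over.forget _).mapIso e.symm).isIso_hom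
  rw [← Over.w e.inv]
  exact ⟨MorphismProperty.comp_mem @IsAffineHom _ _ inferInstance ‹IsAffineHom _›,
    MorphismProperty.comp_mem @LocallyOfFiniteType _ _ inferInstance ‹LocallyOfFiniteType _›⟩

omit [IsAlgClosed k] [CharZero k] in
theorem surjective_hom (X : Over (Spec (CommRingCat.of k))) [GrpObj X] : Surjective X.hom :=
  ⟨fun s => ⟨(η[X]).left (IsLocalRing.closedPoint k), Subsingleton.elim (α := PrimeSpectrum k) _ _⟩⟩

variable (h : OneMot.IsSemiAbWith T G A i q)
include h

theorem semiAb_affine_proj : IsAffineHom q.left :=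
  property_quotient @IsAffineHom h.shortExact (torus_affine h.torus).1

theorem semiAb_smooth_proj : Smooth q.left := by
  haveI : MorphismProperty.DescendsAlong @Smooth H18Descent.fpqc.{u} :=
    inferInstanceAs (MorphismProperty.DescendsAlong @Smooth (@Surjective ⊓ @Flat ⊓ @QuasiCompact))
  haveI := (torus_affine h.torus).2
  exact property_quotient @Smooth h.shortExact (H19Grp.smooth_of_charZero T)

theorem semiAb_surjective_proj : Surjective q.left := by
  haveI : MorphismProperty.DescendsAlong @Surjective H18Descent.fpqc.{u} :=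
    inferInstanceAs (MorphismProperty.DescendsAlong @Surjective (@Surjective ⊓ @Flat ⊓ @QuasiCompact))
  exact property_quotient @Surjective h.shortExact (surjective_hom T)

theorem semiAb_smooth : Smooth G.hom := by
  haveI := semiAb_smooth_proj h
  haveI := h.abelian.smooth
  rw [← Over.w q]; infer_instance

theorem semiAb_quasiCompact : QuasiCompact G.hom := by
  haveI := semiAb_affine_proj h
  haveI := h.abelian.proper
  rw [← Over.w q]; infer_instance

omit [IsAlgClosed k] [CharZero k] in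
theorem semiAb_separated : IsSeparated G.hom := H19Grp.AffineQuotient.isSeparated_of_grp G

theorem semiAb_closedImmersion : IsClosedImmersion i.left := by
  haveI := h.abelian.proper
  haveI : IsClosedImmersion (η[A]).left :=
    H19Grp.AffineQuotient.isClosedImmersion_unit A
  exact MorphismProperty.of_isPullback (P := @IsClosedImmersion)
    ((isKernel h.shortExact).map (Over.forget _)).flip ‹IsClosedImmersion (η[A]).left›

theorem semiAb_geometricallyIntegral : GeometricallyIntegral A.hom := by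
  haveI := h.abelian.proper
  haveI := h.abelian.smooth
  haveI : ConnectedSpace A.left := by
    have h1 := h.abelian.connectedFibres (IsLocalRing.closedPoint k)
    have e : A.hom ⁻¹' {IsLocalRing.closedPoint k} = Set.univ :=
      Set.eq_univ_of_forall fun x => Subsingleton.elim (α := PrimeSpectrum k) _ _
    exact (((A.hom.fiberHomeo (IsLocalRing.closedPoint k)).trans (Homeomorph.setCongr e)).trans
      (Homeomorph.Set.univ _)).surjective.connectedSpace (Homeomorph.continuous _)
  haveI := H19Grp.geometricallyConnected_of_connectedSpace A.hom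
  exact H25AbCube.geometricallyIntegral_of_smooth A

omit h
omit [CharZero k]

/-- Rational points of a split torus. -/
theorem exists_torus_pts (hT : Red.IsTorus T) :
    ∃ (r : ℕ) (φ : (Fin r → kˣ) ≃* (pt k ⟶ T)), ∀ V : TopologicalSpace.Opens T.left, (V : Set T.left).Nonempty →
      ∀ [CharZero k], ∃ x, IsOfFinOrder x ∧ ptOf (φ x) ∈ V := by
  obtain ⟨r, e, he⟩ := exists_torus_split hT
  haveI := he
  let Lt := MonoidAlgebra k (Multiplicative (Fin r → ℤ))
  let j : pt k ≅ (Spec (CommRingCat.of k)).asOver (Spec (CommRingCat.of k)) := Over.isoMk (Iso.refl _) (by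
    show 𝟙 _ ≫ Spec.map (CommRingCat.ofHom (algebraMap k k)) = 𝟙 _
    rw [Category.id_comp, show CommRingCat.ofHom (algebraMap k k) = 𝟙 (CommRingCat.of k) from rfl, Spec.map_id])
  let φ₀ : (Fin r → kˣ) → (pt k ⟶ T) := fun x => j.hom ≫ Spec.mapMulEquiv (unitsEquiv r x) ≫ e.hom
  have hmul : ∀ x y, φ₀ (x * y) = φ₀ x * φ₀ y := fun x y => by
    simp only [φ₀, map_mul, MonObj.mul_comp, MonObj.comp_mul]
  have hb : Function.Bijective (MonoidHom.mk' φ₀ hmul) := by
    refine ⟨fun x y hxy => ?_, fun t => ?_⟩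
    · exact (unitsEquiv r).injective (Spec.mapMulEquiv.injective
        ((cancel_mono e.hom).1 ((cancel_epi j.hom).1 hxy)))
    · refine ⟨(unitsEquiv r).symm (Spec.mapMulEquiv.symm (j.inv ≫ t ≫ e.inv)), ?_⟩
      show j.hom ≫ _ ≫ e.hom = t
      rw [MulEquiv.apply_symm_apply, MulEquiv.apply_symm_apply]
      simp
  refine ⟨r, MulEquiv.ofBijective _ hb, fun V hV _ => ?_⟩
  let V' : TopologicalSpace.Opens (PrimeSpectrum Lt) := ⟨e.hom.left ⁻¹' V, V.2.preimage e.hom.left.continuous⟩
  obtain ⟨v, hv⟩ := hV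
  have hv' : e.inv.left v ∈ V' := by
    show e.hom.left (e.inv.left v) ∈ V
    rw [← Scheme.Hom.comp_apply, ← Over.comp_left, e.inv_hom_id]
    exact hv
  obtain ⟨_, ⟨c, rfl⟩, hc, hcV⟩ :=
    PrimeSpectrum.isTopologicalBasis_basic_opens.exists_subset_of_mem_open hv' V'.2
  have hc0 : c ≠ 0 := by
    rintro rfl
    exact hc (zero_mem _)
  obtain ⟨x, hx, hxc⟩ := exists_torsion_evalAt_ne_zero hc0
  refine ⟨x, hx, hcV (show (c : Lt) ∉ _ from fun hmem => hxc ?_)⟩
  have h2 : evalAt x c ∈ (IsLocalRing.closedPoint k).asIdeal := hmem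
  exact by_contra fun hne => (IsLocalRing.closedPoint k).2.ne_top (Ideal.eq_top_of_isUnit_mem _ h2 (IsUnit.mk0 _ hne))

theorem torus_divisible (hT : Red.IsTorus T) {n : ℕ} (hn : 0 < n) (t : pt k ⟶ T) : ∃ s, s ^ n = t := by
  obtain ⟨r, φ, -⟩ := exists_torus_pts hT
  obtain ⟨x, rfl⟩ := φ.surjective t
  have hex : ∀ i, ∃ z : kˣ, z ^ n = x i := fun i => by
    obtain ⟨z, hz⟩ := IsAlgClosed.exists_pow_nat_eq ((x i : kˣ) : k) hn
    exact ⟨Units.mk0 z fun h0 => (x i).ne_zero (by rw [← hz, h0, zero_pow hn.ne']), Units.ext hz⟩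
  choose z hz using hex
  exact ⟨φ z, by rw [← map_pow, show z ^ n = x from funext hz]⟩

theorem torus_finite_torsion (hT : Red.IsTorus T) {n : ℕ} (hn : 0 < n) :
    {t : pt k ⟶ T | t ^ n = 1}.Finite := by
  obtain ⟨r, φ, -⟩ := exists_torus_pts hT
  haveI : NeZero n := ⟨hn.ne'⟩
  haveI hroot : Finite (rootsOfUnity n k) := inferInstance
  refine Set.Finite.subset ((Set.Finite.pi' fun _ : Fin r =>
    (Set.finite_coe_iff.1 hroot : (rootsOfUnity n k : Set kˣ).Finite)).image φ) fun t ht => ?_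
  obtain ⟨x, rfl⟩ := φ.surjective t
  refine ⟨x, fun i => ?_, rfl⟩
  have h1 : φ (x ^ n) = φ 1 := by rw [map_pow, map_one]; exact ht
  exact (mem_rootsOfUnity n (x i)).2 (congr_fun (φ.injective h1) i)

variable [CharZero k]

theorem semiAb_lift (h : OneMot.IsSemiAbWith T G A i q) (a : pt k ⟶ A) : ∃ g, g ≫ q = a := by
  haveI := semiAb_smooth h
  haveI := h.abelian.smooth
  haveI := semiAb_surjective_proj h
  exact exists_lift_pt q a

theorem semiAb_divisible (h : OneMot.IsSemiAbWith T G A i q) {n : ℕ} (hn : 0 < n) (g : pt k ⟶ G) :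
    ∃ g', g' ^ n = g := by
  haveI := h.abelian.proper
  haveI := semiAb_geometricallyIntegral h
  obtain ⟨a, ha⟩ := H25AbCube.exists_pow_eq hn (g ≫ q)
  obtain ⟨b, rfl⟩ := semiAb_lift h a
  obtain ⟨t, ht⟩ := exists_pt_of_comp_eq_one h.shortExact (g / b ^ n) (by
    rw [div_eq_mul_inv, MonObj.mul_comp, GrpObj.inv_comp, MonObj.pow_comp, ha, mul_inv_cancel])
  obtain ⟨s, rfl⟩ := torus_divisible h.torus hn t
  refine ⟨(s ≫ i) * b, ?_⟩
  rw [mul_pow, ← MonObj.pow_comp, ht, div_mul_cancel]

theorem semiAb_finite_torsion (h : OneMot.IsSemiAbWith T G A i q) {n : ℕ} (hn : 0 < n) :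
    {g : pt k ⟶ G | g ^ n = 1}.Finite := by
  haveI := h.abelian.proper
  haveI := semiAb_geometricallyIntegral h
  haveI := H25AbCube.finite_torsPts (A := A) hn
  refine Set.Finite.of_finite_fibers (fun g => g ≫ q) ?_ fun a ha => ?_
  · refine Set.Finite.subset (Set.toFinite (AbDual.torsPts A n (pt k) : Set (pt k ⟶ A))) ?_
    rintro _ ⟨g, hg, rfl⟩
    refine (AbDual.mem_torsPts A _).2 ?_
    rw [← MonObj.pow_comp, show g ^ n = 1 from hg, MonObj.one_comp]
  · obtain ⟨g₀, hg₀, he⟩ := ha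
    refine ((torus_finite_torsion h.torus hn).image fun t => (t ≫ i) * g₀).subset ?_
    rintro g ⟨hg, hga⟩
    obtain ⟨t, ht⟩ := exists_pt_of_comp_eq_one h.shortExact (g / g₀) (by
      rw [div_eq_mul_inv, MonObj.mul_comp, GrpObj.inv_comp, show g ≫ q = a from hga, ← he, mul_inv_cancel])
    refine ⟨t, ?_, show (t ≫ i) * g₀ = g by rw [ht, div_mul_cancel]⟩
    refine eq_of_comp_eq h.shortExact ?_
    rw [MonObj.pow_comp, ht, MonObj.one_comp, div_pow, show g ^ n = 1 from hg, show g₀ ^ n = 1 from hg₀, div_one]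

omit [CharZero k] [IsAlgClosed k] in
theorem isOfFinOrder_comp_mul {r : ℕ} (φ : (Fin r → kˣ) ≃* (pt k ⟶ T)) {x : Fin r → kˣ} {g : pt k ⟶ G}
    (hx : IsOfFinOrder x) (hg : IsOfFinOrder g) : IsOfFinOrder ((φ x ≫ i) * g) := by
  obtain ⟨m, hm, hxm⟩ := isOfFinOrder_iff_pow_eq_one.1 hx
  obtain ⟨n, hn, hgn⟩ := isOfFinOrder_iff_pow_eq_one.1 hg
  refine isOfFinOrder_iff_pow_eq_one.2 ⟨m * n, Nat.mul_pos hm hn, ?_⟩
  rw [mul_pow, ← MonObj.pow_comp, ← map_pow, pow_mul x, hxm, one_pow, map_one, MonObj.one_comp,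
    Nat.mul_comm m n, pow_mul g, hgn, one_pow, _root_.mul_one]

/-- The torsion points of a semi-abelian variety are dense. -/
theorem semiAb_dense_torsion (h : OneMot.IsSemiAbWith T G A i q) :
    Dense (ptOf '' {g : pt k ⟶ G | IsOfFinOrder g}) := by
  haveI := semiAb_smooth h
  haveI := h.abelian.proper
  haveI := h.abelian.smooth
  haveI := semiAb_geometricallyIntegral h
  haveI := semiAb_smooth_proj h
  haveI := (torus_affine h.torus).2
  set C := closure (ptOf '' {g : pt k ⟶ G | IsOfFinOrder g}) with hC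
  obtain ⟨r, φ, hφ⟩ := exists_torus_pts h.torus
  have hstab : ∀ (g : pt k ⟶ G), IsOfFinOrder g → ∀ t : pt k ⟶ T, ptOf ((t ≫ i) * g) ∈ C := by
    intro g hg t
    let τ : T ⟶ G := i * ((Over.homMk T.hom : T ⟶ pt k) ≫ g)
    have hτ : ∀ s : pt k ⟶ T, s ≫ τ = (s ≫ i) * g := fun s => by
      rw [MonObj.comp_mul, ← Category.assoc,
        show s ≫ (Over.homMk T.hom : T ⟶ pt k) = 𝟙 _ from Over.OverMorphism.ext (Over.w s), Category.id_comp]
    by_contra hn
    obtain ⟨x, hx, hxV⟩ := hφ ⟨τ.left ⁻¹' Cᶜ, isClosed_closure.isOpen_compl.preimage τ.left.continuous⟩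
      ⟨ptOf t, show τ.left (ptOf t) ∈ Cᶜ by rw [← ptOf_comp, hτ]; exact hn⟩
    refine (show τ.left (ptOf (φ x)) ∈ Cᶜ from hxV) (subset_closure ⟨(φ x ≫ i) * g, ?_, ?_⟩)
    · rw [Set.mem_ofPred_eq]
      have key := isOfFinOrder_comp_mul (i := i) (g := g) φ hx hg
      exact key
    · rw [← ptOf_comp, hτ]
  refine dense_iff_closure_eq.2 (Set.eq_univ_of_forall fun y => ?_)
  by_contra hy
  have hopen : IsOpen (q.left '' Cᶜ) := q.left.isOpenMap _ isClosed_closure.isOpen_compl
  have hd := H25AbCube.dense_torsSet (A := A) (l := 2) (by norm_num)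
  obtain ⟨_, ⟨n, a, ha, rfl⟩, z, hz, haz⟩ := hd.exists_mem_open hopen ⟨q.left y, y, hy, rfl⟩
  have hne : (Cᶜ ∩ q.left ⁻¹' {ptOf a} : Set G.left) ≠ ∅ :=
    Set.nonempty_iff_ne_empty.1 ⟨z, hz, haz⟩
  refine hne (eq_empty_of_forall_ptOf
    (isClosed_closure.isOpen_compl.isLocallyClosed.inter ((isClosed_ptOf a).preimage q.left.continuous).isLocallyClosed)
    fun g ⟨hgC, hga⟩ => hgC ?_)
  have hga' : g ≫ q = a := eq_of_ptOf_eq ((ptOf_comp g q).trans hga)
  have hN : 0 < 2 ^ n := pow_pos (by norm_num) n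
  obtain ⟨t, ht⟩ := exists_pt_of_comp_eq_one h.shortExact (g ^ 2 ^ n) (by
    rw [MonObj.pow_comp, hga', ha])
  obtain ⟨s, rfl⟩ := torus_divisible h.torus hN t
  have hfin : IsOfFinOrder ((s ≫ i)⁻¹ * g) := isOfFinOrder_iff_pow_eq_one.2 ⟨2 ^ n, hN, by
    rw [mul_pow, inv_pow, ← MonObj.pow_comp, ht, inv_mul_cancel]⟩
  have := hstab _ hfin s
  rwa [mul_inv_cancel_left] at this

/-- Morphisms out of a semi-abelian variety agree when they agree on torsion points. -/
theorem semiAb_hom_ext (h : OneMot.IsSemiAbWith T G A i q) {Y : Over (Spec (CommRingCat.of k))}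
    [IsSeparated Y.hom] [LocallyOfFiniteType Y.hom] {f f' : G ⟶ Y}
    (e : ∀ g : pt k ⟶ G, IsOfFinOrder g → g ≫ f = g ≫ f') : f = f' := by
  haveI := semiAb_smooth h
  haveI : IsReduced G.left := H13AlgSp.isReduced_of_smooth_mor G.hom
  refine Over.OverMorphism.ext ?_
  have := ext_of_fromSpecResidueField_eq f.left f'.left Y.hom (ptOf '' {g : pt k ⟶ G | IsOfFinOrder g})
    (semiAb_dense_torsion h) ?_ ((Over.w f).trans (Over.w f').symm)
  · exact this
  rintro _ ⟨g, hg, rfl⟩
  have hx := isClosed_ptOf g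
  haveI : IsIso (Spec.map (residueFieldIsoBase G.hom (ptOf g) hx).hom) := inferInstance
  rw [← cancel_epi (Spec.map (residueFieldIsoBase G.hom (ptOf g) hx).hom), ← Category.assoc, ← Category.assoc]
  have hp : g.left = pointOfClosedPoint G.hom (ptOf g) hx :=
    ext_of_apply_closedPoint_eq G.hom (Over.w g) (pointOfClosedPoint_comp _ _ _)
      (pointOfClosedPoint_apply _ _ _ _).symm
  show pointOfClosedPoint G.hom (ptOf g) hx ≫ f.left = pointOfClosedPoint G.hom (ptOf g) hx ≫ f'.left
  rw [← hp]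
  exact congrArg (·.left) (e g hg)

end Groth.Agent.H26OneMot
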