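import Mathlib

/-!
# Divisibility lemmas for finitely generated free abelian groups
-/

set_option autoImplicit false

namespace Groth.Agent.H26OneMot

/-- A torsion group which modulo `H` comes from a finitely generated group lies in `H` when it is divisible. -/
theorem mem_of_fg_of_divisible {Λ G : Type*} [CommGroup Λ] [CommGroup G] {r : ℕ}
    (φ : Multiplicative (Fin r → ℤ) ≃* Λ) (ψ : Λ →* G) (H : Subgroup G)
    (hdiv : ∀ z : G, IsOfFinOrder z → ∀ n : ℕ, 0 < n → ∃ z', z' ^ n = z)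
    (hex : ∀ z : G, IsOfFinOrder z → ∃ y, ψ y * z⁻¹ ∈ H) {z : G} (hz : IsOfFinOrder z) : z ∈ H := by
  classical
  let χ : Multiplicative (Fin r → ℤ) →* G := ψ.comp φ.toMonoidHom
  let S : Subgroup (Multiplicative (Fin r → ℤ)) :=
    { carrier := {v | ∃ z, IsOfFinOrder z ∧ χ v * z⁻¹ ∈ H}
      one_mem' := ⟨1, IsOfFinOrder.one, by simp⟩
      mul_mem' := by
        rintro a b ⟨za, ha, ha'⟩ ⟨zb, hb, hb'⟩
        refine ⟨za * zb, ha.mul hb, ?_⟩
        have := H.mul_mem ha' hb'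
        rwa [map_mul, mul_inv, mul_mul_mul_comm]
      inv_mem' := by
        rintro a ⟨za, ha, ha'⟩
        refine ⟨za⁻¹, ha.inv, ?_⟩
        rw [map_inv]
        have := H.inv_mem ha'
        rwa [mul_inv] at this }
  obtain ⟨s, hs⟩ := IsNoetherian.noetherian (AddSubgroup.toIntSubmodule (Subgroup.toAddSubgroup' S))
  have hgen : ∀ v ∈ s, ∃ n : ℕ, 0 < n ∧ χ (Multiplicative.ofAdd v) ^ n ∈ H := fun v hv => by
    obtain ⟨z, hz, hmem⟩ : Multiplicative.ofAdd v ∈ S :=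
      show v ∈ AddSubgroup.toIntSubmodule (Subgroup.toAddSubgroup' S) from hs ▸ Submodule.subset_span hv
    obtain ⟨n, hn, hzn⟩ := isOfFinOrder_iff_pow_eq_one.1 hz
    refine ⟨n, hn, ?_⟩
    have := H.pow_mem hmem n
    rwa [mul_pow, inv_pow, hzn, inv_one, mul_one] at this
  choose! n hn hnH using hgen
  let N := ∏ v ∈ s, n v
  have hN : 0 < N := Finset.prod_pos fun v hv => hn v hv
  have hK : ∀ v ∈ S, χ v ^ N ∈ H := by
    let K : Subgroup (Multiplicative (Fin r → ℤ)) := H.comap ((powMonoidHom N).comp χ)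
    have hle : AddSubgroup.toIntSubmodule (Subgroup.toAddSubgroup' S) ≤
        AddSubgroup.toIntSubmodule (Subgroup.toAddSubgroup' K) := by
      rw [← hs, Submodule.span_le]
      intro v hv
      obtain ⟨d, hd⟩ := Finset.dvd_prod_of_mem n hv
      show χ (Multiplicative.ofAdd v) ^ N ∈ H
      rw [show N = n v * d from hd, pow_mul]
      exact H.pow_mem (hnH v hv) d
    exact fun v hv => hle (x := Multiplicative.toAdd v) hv
  obtain ⟨w, hw⟩ := hdiv z hz N hN
  have hwf : IsOfFinOrder w := by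
    obtain ⟨m, hm, hzm⟩ := isOfFinOrder_iff_pow_eq_one.1 hz
    exact isOfFinOrder_iff_pow_eq_one.2 ⟨N * m, Nat.mul_pos hN hm, by rw [pow_mul, hw, hzm]⟩
  obtain ⟨y, hy⟩ := hex w hwf
  have h1 : χ (φ.symm y) * w⁻¹ ∈ H := by simpa [χ] using hy
  have h2 := H.pow_mem h1 N
  rw [mul_pow, inv_pow, hw, H.mul_mem_cancel_left (hK _ ⟨w, hwf, h1⟩)] at h2
  exact inv_mem_iff.1 h2

/-- A submodule of a lattice with divisible quotient is everything. -/
theorem eq_top_of_divisible {Λ : Type*} [CommGroup Λ] {r : ℕ} (φ : Multiplicative (Fin r → ℤ) ≃* Λ)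
    (H : Subgroup Λ) (h : ∀ (y : Λ) (m : ℕ), m ≠ 0 → ∃ w, w ^ m * y ∈ H) : H = ⊤ := by
  let P : Submodule ℤ (Fin r → ℤ) := AddSubgroup.toIntSubmodule (Subgroup.toAddSubgroup' (H.comap φ.toMonoidHom))
  have hdiv : ∀ (q : (Fin r → ℤ) ⧸ P) (m : ℕ), m ≠ 0 → ∃ q', q = (m : ℤ) • q' := by
    intro q m hm
    obtain ⟨v, rfl⟩ := Submodule.mkQ_surjective P q
    obtain ⟨w, hw⟩ := h (φ (Multiplicative.ofAdd v)) m hm
    obtain ⟨u, rfl⟩ := φ.surjective w
    refine ⟨P.mkQ (-u.toAdd), ?_⟩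
    rw [← map_smul, Submodule.mkQ_apply, Submodule.mkQ_apply, Submodule.Quotient.eq]
    show φ (Multiplicative.ofAdd (v - (m : ℤ) • -u.toAdd)) ∈ H
    rw [smul_neg, sub_neg_eq_add, natCast_zsmul, ofAdd_add, map_mul, ofAdd_nsmul, map_pow, ofAdd_toAdd, mul_comm]
    exact hw
  obtain ⟨c, hc, hc0⟩ := Submodule.exists_sub_one_mem_and_smul_eq_zero_of_fg_of_le_smul
    (Ideal.span {(2 : ℤ)}) (⊤ : Submodule ℤ ((Fin r → ℤ) ⧸ P)) Module.Finite.fg_top (by
      intro q _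
      obtain ⟨q', rfl⟩ := hdiv q 2 two_ne_zero
      exact Submodule.smul_mem_smul (Ideal.mem_span_singleton_self _) trivial)
  have hc' : c ≠ 0 := by
    rintro rfl
    rw [Ideal.mem_span_singleton] at hc
    omega
  refine eq_top_iff.2 fun y _ => ?_
  obtain ⟨v, rfl⟩ := φ.surjective y
  obtain ⟨q', hq'⟩ := hdiv (P.mkQ v.toAdd) c.natAbs (Int.natAbs_ne_zero.2 hc')
  have hz : P.mkQ v.toAdd = 0 := by
    rw [hq']
    rcases Int.natAbs_eq c with e | e
    · rw [← e]; exact hc0 q' trivial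
    · rw [show (c.natAbs : ℤ) = -c by omega, neg_smul, hc0 q' trivial, neg_zero]
  exact (Submodule.Quotient.mk_eq_zero P).1 hz

end Groth.Agent.H26OneMot
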