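import Groth.Prelude.Def_OneMot
import Groth.Agent.H26OneMot.Pts
import Groth.Agent.H19Grp.AffineQuotient
import Groth.Agent.H21Diag.Loci
import Mathlib

/-!
# Lattices over an algebraically closed field
-/

set_option autoImplicit false
set_option linter.style.haveILetI false
set_option backward.isDefEq.respectTransparency false

universe u

open CategoryTheory CategoryTheory.Limits MonoidalCategory CartesianMonoidalCategory MonObj GrpObj
  AlgebraicGeometry

namespace Groth.Agent.H26OneMot

variable {k : Type u} [Field k] [IsAlgClosed k]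

theorem exists_section {S' : Scheme.{u}} (f : S' ⟶ Spec (CommRingCat.of k)) [LocallyOfFiniteType f] (s : S') :
    ∃ σ : Spec (CommRingCat.of k) ⟶ S', σ ≫ f = 𝟙 _ := by
  haveI := LocallyOfFiniteType.jacobsonSpace f
  obtain ⟨x, -, hx⟩ := nonempty_inter_closedPoints (X := S') (Z := Set.univ) ⟨s, trivial⟩
    isClosed_univ.isLocallyClosed
  exact ⟨pointOfClosedPoint f x hx, pointOfClosedPoint_comp _ _ _⟩

variable {L N : Over (Spec (CommRingCat.of k))} [GrpObj L] [GrpObj N]

theorem lattice_etale (hL : OneMot.IsLattice L) : Etale L.hom := by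
  obtain ⟨S', f, hf, ⟨s, -⟩, r, e, -⟩ := hL (IsLocalRing.closedPoint k)
  haveI := hf
  obtain ⟨σ, hσ⟩ := exists_section f s
  let M := Multiplicative (Fin r → ℤ)
  haveI h1 : Etale (TwC.const S' M).hom :=
    IsZariskiLocalAtSource.sigmaDesc (P := @Etale) fun _ => inferInstanceAs (Etale (𝟙 S'))
  haveI h2 : Etale (Red.bc f L).hom := by rw [← Over.w e.hom]; infer_instance
  let l : L.left ⟶ pullback L.hom f := pullback.lift (𝟙 _) (L.hom ≫ σ) (by
    rw [Category.id_comp, Category.assoc, hσ, Category.comp_id])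
  have hsq : IsPullback l L.hom (pullback.snd L.hom f) σ := by
    refine IsPullback.of_right ?_ (pullback.lift_snd _ _ _) (IsPullback.of_hasPullback L.hom f)
    rw [pullback.lift_fst, hσ]
    exact IsPullback.of_horiz_isIso ⟨by rw [Category.id_comp, Category.comp_id]⟩
  exact MorphismProperty.of_isPullback (P := @Etale) hsq (show Etale (pullback.snd L.hom f) from h2)

omit [IsAlgClosed k] in
theorem lattice_separated : IsSeparated L.hom := H19Grp.AffineQuotient.isSeparated_of_grp L

/-- The rational points of a lattice form a free abelian group. -/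
theorem exists_lattice_pts (hL : OneMot.IsLattice L) :
    ∃ r : ℕ, Nonempty (Multiplicative (Fin r → ℤ) ≃* (pt k ⟶ L)) := by
  obtain ⟨S', f, hf, ⟨s, -⟩, r, e, he⟩ := hL (IsLocalRing.closedPoint k)
  haveI := hf
  obtain ⟨σ, hσ⟩ := exists_section f s
  let M := Multiplicative (Fin r → ℤ)
  let T : Over S' := Over.mk σ
  let j : pt k ≅ (Over.map f).obj T := Over.isoMk (Iso.refl _) (by
    show 𝟙 _ ≫ σ ≫ f = 𝟙 _
    rw [Category.id_comp, hσ])
  let φ₀ : M → (pt k ⟶ L) := fun m =>
    j.hom ≫ (H21Diag.bcEquiv f L T).symm (toUnit T ≫ TwC.pt S' M m ≫ e.inv)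
  have hmul : ∀ m n, φ₀ (m * n) = φ₀ m * φ₀ n := fun m n => by
    show j.hom ≫ _ = (j.hom ≫ _) * (j.hom ≫ _)
    rw [← MonObj.comp_mul, ← H21Diag.bcEquiv_symm_mul, ← MonObj.comp_mul, he m n]
  let φ : M →* (pt k ⟶ L) := MonoidHom.mk' φ₀ hmul
  refine ⟨r, ⟨MulEquiv.ofBijective φ ⟨?_, ?_⟩⟩⟩
  · intro m n h
    have h1 : toUnit T ≫ TwC.pt S' M m ≫ e.inv = toUnit T ≫ TwC.pt S' M n ≫ e.inv :=
      (H21Diag.bcEquiv f L T).symm.injective ((cancel_epi j.hom).1 h)
    rw [← Category.assoc, ← Category.assoc, cancel_mono] at h1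
    have h2 : σ ≫ Sigma.ι (fun _ : M => S') m = σ ≫ Sigma.ι (fun _ : M => S') n := by
      simpa [TwC.pt, T] using congrArg (·.left) h1
    have h3 := congrArg (fun t => (ConcreteCategory.hom t.base) (IsLocalRing.closedPoint k)) h2
    exact (Sigma.mk.inj_iff.1 ((sigmaι_eq_iff (fun _ : M => S') m n _ _).1
      ((Scheme.Hom.comp_apply σ _ _).symm.trans (h3.trans (Scheme.Hom.comp_apply σ _ _))))).1
  · intro x
    let y : T ⟶ TwC.const S' M := H21Diag.bcEquiv f L T (j.inv ≫ x) ≫ e.hom
    obtain ⟨m, z, hz⟩ := (sigmaOpenCover (fun _ : M => S')).exists_eq (y.left (IsLocalRing.closedPoint k))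
    refine ⟨m, ?_⟩
    have hr : Set.range y.left ⊆ Set.range (Sigma.ι (fun _ : M => S') m) := by
      rintro _ ⟨q, rfl⟩
      rw [show q = IsLocalRing.closedPoint k from Subsingleton.elim (α := PrimeSpectrum k) _ _]
      exact ⟨z, hz⟩
    let w := IsOpenImmersion.lift (Sigma.ι (fun _ : M => S') m) y.left hr
    have hwι : w ≫ Sigma.ι (fun _ : M => S') m = y.left := IsOpenImmersion.lift_fac _ _ hr
    have hw : w = σ := by
      have := congrArg (fun t => t ≫ Sigma.desc fun _ : M => 𝟙 S') hwι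
      rw [Category.assoc, Sigma.ι_desc, Category.comp_id] at this
      exact this.trans (Over.w y)
    have hy : toUnit T ≫ TwC.pt S' M m = y := by
      refine Over.OverMorphism.ext ?_
      simpa [TwC.pt, T, hw] using hwι
    show j.hom ≫ (H21Diag.bcEquiv f L T).symm (toUnit T ≫ TwC.pt S' M m ≫ e.inv) = x
    rw [← Category.assoc (toUnit T), hy, Category.assoc, Iso.hom_inv_id, Category.comp_id,
      Equiv.symm_apply_apply, Iso.hom_inv_id_assoc]

theorem lattice_torsionFree (hL : OneMot.IsLattice L) {x : pt k ⟶ L} {m : ℕ} (hm : m ≠ 0) (h : x ^ m = 1) :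
    x = 1 := by
  obtain ⟨r, ⟨φ⟩⟩ := exists_lattice_pts hL
  obtain ⟨v, rfl⟩ := φ.surjective x
  rw [← map_pow, map_eq_one_iff φ φ.injective] at h
  have h' : m • v.toAdd = 0 := congrArg Multiplicative.toAdd h
  rw [smul_eq_zero_iff_right hm] at h'
  rw [show v = 1 from Multiplicative.toAdd.injective h', map_one]

theorem lattice_eq_one_of_divisible (hL : OneMot.IsLattice L) {x : pt k ⟶ L}
    (h : ∀ m : ℕ, m ≠ 0 → ∃ y, y ^ m = x) : x = 1 := by
  obtain ⟨r, ⟨φ⟩⟩ := exists_lattice_pts hL
  obtain ⟨v, rfl⟩ := φ.surjective x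
  suffices v = 1 by rw [this, map_one]
  refine Multiplicative.toAdd.injective (funext fun i => ?_)
  obtain ⟨y, hy⟩ := h ((v.toAdd i).natAbs + 1) (by omega)
  obtain ⟨w, rfl⟩ := φ.surjective y
  rw [← map_pow, φ.injective.eq_iff] at hy
  have hi : (((v.toAdd i).natAbs + 1 : ℕ) : ℤ) * w.toAdd i = v.toAdd i := by
    rw [← nsmul_eq_mul, ← Pi.smul_apply, ← toAdd_pow, hy]
  refine Int.eq_zero_of_dvd_of_natAbs_lt_natAbs (Dvd.intro _ hi) ?_
  rw [Int.natAbs_natCast]
  exact Nat.lt_succ_self _

/-- A lattice over an algebraically closed field is covered by its rational points. -/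
theorem isIso_ptsCover (hL : OneMot.IsLattice L) :
    IsIso (Sigma.desc fun x : pt k ⟶ L => x.left) := by
  haveI := lattice_etale hL
  haveI : ∀ x : pt k ⟶ L, IsOpenImmersion x.left := fun x => by
    haveI : Etale (x.left ≫ L.hom) := by rw [Over.w x]; show Etale (𝟙 _); infer_instance
    haveI : Etale x.left := Etale.of_comp x.left L.hom
    haveI : IsClosedImmersion x.left := by
      haveI := lattice_separated (L := L)
      exact isClosedImmersion_of_comp_eq_id L.hom _ (Over.w x)
    exact IsOpenImmersion.of_flat_of_mono x.left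
  haveI : IsOpenImmersion (Sigma.desc fun x : pt k ⟶ L => x.left) := by
    refine isOpenImmersion_sigmaDesc _ _ fun a b hab => Set.disjoint_left.2 ?_
    rintro _ ⟨p, rfl⟩ ⟨q, hq⟩
    refine hab (eq_of_ptOf_eq ?_).symm
    rw [Subsingleton.elim (α := PrimeSpectrum k) p (IsLocalRing.closedPoint k),
      Subsingleton.elim (α := PrimeSpectrum k) q (IsLocalRing.closedPoint k)] at hq
    exact hq
  haveI : Surjective (Sigma.desc fun x : pt k ⟶ L => x.left) := by
    refine ⟨fun y => ?_⟩
    by_contra hy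
    have h0 : (Set.range (Sigma.desc fun x : pt k ⟶ L => x.left))ᶜ = ∅ := eq_empty_of_forall_ptOf
      (Scheme.Hom.isOpenEmbedding _).isOpen_range.isClosed_compl.isLocallyClosed fun a ha =>
      ha ⟨Sigma.ι (fun _ : pt k ⟶ L => Spec (CommRingCat.of k)) a (IsLocalRing.closedPoint k),
        (Scheme.Hom.comp_apply _ _ _).symm.trans (congrArg
          (fun t : Spec (CommRingCat.of k) ⟶ L.left => t (IsLocalRing.closedPoint k)) (Sigma.ι_desc _ a))⟩
    exact h0.le hy
  exact (isIso_iff_isOpenImmersion_and_surjective _).2 ⟨inferInstance, inferInstance⟩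

/-- A homomorphism of lattices bijective on rational points is an isomorphism. -/
theorem isIso_of_bijective_lattice (hL : OneMot.IsLattice L) (hN : OneMot.IsLattice N) (f : L ⟶ N)
    (hf : Function.Bijective fun x : pt k ⟶ L => x ≫ f) : IsIso f := by
  haveI := isIso_ptsCover hL
  haveI := isIso_ptsCover hN
  let E := Equiv.ofBijective _ hf
  let F := Sigma.whiskerEquiv (f := fun _ : pt k ⟶ L => Spec (CommRingCat.of k))
    (g := fun _ : pt k ⟶ N => Spec (CommRingCat.of k)) E fun _ => Iso.refl _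
  have h : (Sigma.desc fun x : pt k ⟶ L => x.left) ≫ f.left =
      F.hom ≫ Sigma.desc fun x : pt k ⟶ N => x.left :=
    Sigma.hom_ext _ _ fun x => by simp [F, E]
  haveI : IsIso ((Sigma.desc fun x : pt k ⟶ L => x.left) ≫ f.left) := by
    rw [h]
    exact IsIso.comp_isIso' F.isIso_hom (isIso_ptsCover hN)
  haveI : IsIso f.left := IsIso.of_isIso_comp_left (Sigma.desc fun x : pt k ⟶ L => x.left) _
  haveI : IsIso ((Over.forget _).map f) := ‹IsIso f.left›
  exact isIso_of_reflects_iso f (Over.forget _)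

end Groth.Agent.H26OneMot
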