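import Groth.Prelude.Def_OneMot
import Groth.Agent.H26OneMot.Lattice
import Groth.Agent.H26OneMot.SemiAb
import Groth.Agent.H26OneMot.Algebra
import Groth.Agent.S17450
import Groth.Agent.H19Grp.DominantHom
import Groth.Agent.H19Grp.HomFlat
import Groth.Agent.H19Grp.HomUnramified

/-!
# Morphisms of 1-motives and their torsion realizations
-/

set_option autoImplicit false
set_option maxHeartbeats 1000000
set_option linter.style.haveILetI false
set_option linter.unusedSectionVars false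
set_option backward.isDefEq.respectTransparency false

universe u

open CategoryTheory CategoryTheory.Limits MonoidalCategory CartesianMonoidalCategory MonObj GrpObj
  AlgebraicGeometry OneMot

namespace Groth.Agent.H26OneMot

variable {k : Type u} [Field k] [IsAlgClosed k] [CharZero k] {M N : OneMot.Motive (Spec (CommRingCat.of k))}

/-- An admissible pair. -/
noncomputable def mkPair (m : ℕ) (x : pt k ⟶ M.L) (g : pt k ⟶ M.G) (e : x ≫ M.u = (g ^ m)⁻¹) :
    OneMot.tzPairs M m (pt k) :=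
  ⟨(Additive.ofMul x, Additive.ofMul g), congrArg Additive.ofMul e⟩

theorem exists_rel (f f' : Motive.Hom M N) (m : ℕ) (hm : tzMap m (pt k) f = tzMap m (pt k) f')
    (x : pt k ⟶ M.L) (g : pt k ⟶ M.G) (e : x ≫ M.u = (g ^ m)⁻¹) :
    ∃ y : pt k ⟶ N.L, y ^ m = (x ≫ f.fL)⁻¹ * (x ≫ f'.fL) ∧ (y ≫ N.u)⁻¹ = (g ≫ f.fG)⁻¹ * (g ≫ f'.fG) := by
  have h1 := DFunLike.congr_fun hm (QuotientAddGroup.mk (mkPair m x g e))
  obtain ⟨y, hy⟩ := QuotientAddGroup.eq.1 h1
  exact ⟨y.toMul, congrArg Additive.toMul (congrArg Prod.fst hy), congrArg Additive.toMul (congrArg Prod.snd hy)⟩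

theorem exists_preimage (f : Motive.Hom M N) (m : ℕ) (hs : Function.Surjective (tzMap m (pt k) f))
    (y₀ : pt k ⟶ N.L) (h₀ : pt k ⟶ N.G) (e : y₀ ≫ N.u = (h₀ ^ m)⁻¹) :
    ∃ (x : pt k ⟶ M.L) (g : pt k ⟶ M.G) (w : pt k ⟶ N.L), x ≫ M.u = (g ^ m)⁻¹ ∧
      w ^ m = (x ≫ f.fL)⁻¹ * y₀ ∧ (w ≫ N.u)⁻¹ = (g ≫ f.fG)⁻¹ * h₀ := by
  obtain ⟨q, hq⟩ := hs (QuotientAddGroup.mk (mkPair m y₀ h₀ e))
  obtain ⟨⟨⟨x, g⟩, hxg⟩, rfl⟩ := QuotientAddGroup.mk_surjective q
  obtain ⟨w, hw⟩ := QuotientAddGroup.eq.1 hq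
  exact ⟨x.toMul, g.toMul, w.toMul, congrArg Additive.toMul hxg,
    congrArg Additive.toMul (congrArg Prod.fst hw), congrArg Additive.toMul (congrArg Prod.snd hw)⟩

theorem exists_of_map_eq_one (f : Motive.Hom M N) (m : ℕ) (hi : Function.Injective (tzMap m (pt k) f))
    (x : pt k ⟶ M.L) (g : pt k ⟶ M.G) (e : x ≫ M.u = (g ^ m)⁻¹) (hx : x ≫ f.fL = 1) (hg : g ≫ f.fG = 1) :
    ∃ y : pt k ⟶ M.L, y ^ m = x ∧ (y ≫ M.u)⁻¹ = g := by
  have h1 : tzMap m (pt k) f (QuotientAddGroup.mk (mkPair m x g e)) = 0 :=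
    (QuotientAddGroup.eq_zero_iff _).2 ⟨0, Prod.ext ((smul_zero _).trans (congrArg Additive.ofMul hx).symm) (by
      show -Additive.ofMul ((1 : pt k ⟶ N.L) ≫ N.u) = Additive.ofMul (g ≫ f.fG)
      rw [hg, MonObj.one_comp]
      exact neg_zero)⟩
  have h2 : (QuotientAddGroup.mk (mkPair m x g e) : OneMot.TZMod M m (pt k)) = 0 :=
    hi (h1.trans (map_zero _).symm)
  obtain ⟨y, hy⟩ := (QuotientAddGroup.eq_zero_iff _).1 h2
  exact ⟨y.toMul, congrArg Additive.toMul (congrArg Prod.fst hy), congrArg Additive.toMul (congrArg Prod.snd hy)⟩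

theorem motive_separated (N : OneMot.Motive (Spec (CommRingCat.of k))) :
    IsSeparated N.G.hom ∧ IsSeparated N.L.hom :=
  ⟨semiAb_separated N.semiAb, lattice_separated⟩

theorem fL_eq (f f' : Motive.Hom M N) (h : ∀ m : ℕ, 1 ≤ m → tzMap m (pt k) f = tzMap m (pt k) f') :
    f.fL = f'.fL := by
  haveI := lattice_etale M.lattice
  haveI := (motive_separated N).2
  refine hom_ext_pt fun x => ?_
  have hd : (x ≫ f.fL)⁻¹ * (x ≫ f'.fL) = 1 := lattice_eq_one_of_divisible N.lattice fun m hm => by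
    obtain ⟨g, hg⟩ := semiAb_divisible M.semiAb (Nat.pos_of_ne_zero hm) (x ≫ M.u)⁻¹
    obtain ⟨y, hy, -⟩ := exists_rel f f' m (h m (Nat.pos_of_ne_zero hm)) x g (by rw [hg, _root_.inv_inv])
    exact ⟨y, hy⟩
  exact inv_mul_eq_one.1 hd

theorem fG_eq (f f' : Motive.Hom M N) (h : ∀ m : ℕ, 1 ≤ m → tzMap m (pt k) f = tzMap m (pt k) f') :
    f.fG = f'.fG := by
  haveI := (motive_separated N).1
  haveI := semiAb_smooth N.semiAb
  refine semiAb_hom_ext M.semiAb fun g hg => ?_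
  obtain ⟨m, hm, hgm⟩ := isOfFinOrder_iff_pow_eq_one.1 hg
  obtain ⟨y, hy, hy'⟩ := exists_rel f f' m (h m hm) 1 g (by rw [MonObj.one_comp, hgm, inv_one])
  rw [MonObj.one_comp, MonObj.one_comp, inv_one, _root_.one_mul] at hy
  rw [lattice_torsionFree N.lattice hm.ne' hy, MonObj.one_comp, inv_one] at hy'
  exact inv_mul_eq_one.1 hy'.symm

variable (f : Motive.Hom M N) (h : ∀ m : ℕ, 1 ≤ m → Function.Bijective (tzMap m (pt k) f))
include h

theorem torsion_inj {g : pt k ⟶ M.G} (hg : IsOfFinOrder g) (hf : g ≫ f.fG = 1) : g = 1 := by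
  obtain ⟨m, hm, hgm⟩ := isOfFinOrder_iff_pow_eq_one.1 hg
  obtain ⟨y, hy, hy'⟩ := exists_of_map_eq_one f m (h m hm).1 1 g
    (by rw [MonObj.one_comp, hgm, inv_one]) (MonObj.one_comp _) hf
  rw [lattice_torsionFree M.lattice hm.ne' hy, MonObj.one_comp, inv_one] at hy'
  exact hy'.symm

theorem fG_inj_pts {g : pt k ⟶ M.G} (hf : g ≫ f.fG = 1) : g = 1 := by
  haveI := (motive_separated N).1
  haveI := semiAb_smooth M.semiAb
  haveI := semiAb_quasiCompact M.semiAb
  haveI := semiAb_closedImmersion M.semiAb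
  haveI := M.semiAb.abelian.proper
  obtain ⟨H, _, j, hj, hjcl, hH⟩ := H19Grp.AffineQuotient.exists_kernel f.fG
  haveI := hj
  haveI := hjcl
  haveI : Mono j := Over.mono_of_mono_left j
  haveI : IsCommMonObj H := by
    refine ⟨?_⟩
    rw [← cancel_mono j, Category.assoc, IsMonHom.mul_hom j, ← Category.assoc,
      ← BraidedCategory.braiding_naturality, Category.assoc, IsCommMonObj.mul_comm M.G]
  have hjf : ∀ a : pt k ⟶ H, a ≫ j ≫ f.fG = 1 := fun a => by
    rw [H19Grp.kernel_comp_eq_one hH, MonObj.comp_one]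
  haveI hsep : IsSeparated H.hom := H19Grp.AffineQuotient.isSeparated_of_grp H
  haveI : IsMonHom ((𝟙 H) ^ 2 : H ⟶ H) := by
    rw [← zpow_natCast]; exact H19Grp.isMonHom_zpow (𝟙 H) _
  obtain ⟨K₂, _, n, hn, hncl, hK⟩ := H19Grp.AffineQuotient.exists_kernel ((𝟙 H) ^ 2 : H ⟶ H)
  haveI := hn
  haveI := hncl
  haveI : Mono n := Over.mono_of_mono_left n
  haveI : LocallyOfFiniteType H.hom := by rw [← Over.w j]; infer_instance
  haveI : LocallyOfFiniteType K₂.hom := by rw [← Over.w n]; infer_instance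
  haveI := H19Grp.smooth_of_charZero K₂
  haveI : IsSeparated K₂.hom := H19Grp.AffineQuotient.isSeparated_of_grp K₂
  have hK₂ : (𝟙 K₂ : K₂ ⟶ K₂) = 1 := hom_ext_pt fun a => by
    rw [Category.comp_id, MonObj.comp_one, ← cancel_mono n, MonObj.one_comp, ← cancel_mono j, MonObj.one_comp]
    refine torsion_inj f h (isOfFinOrder_iff_pow_eq_one.2 ⟨2, two_pos, ?_⟩) ?_
    · have h2 : (a ≫ n) ^ 2 = 1 := by
        rw [← H25AbCube.comp_pow_id, Category.assoc, H19Grp.kernel_comp_eq_one hK, MonObj.comp_one]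
      rw [← MonObj.pow_comp, h2, MonObj.one_comp]
    · rw [Category.assoc, hjf]
  haveI : IsFinite H.hom := S17450.isFinite_algClosed M.incl M.semiAb.torus M.proj
    (isKernel M.semiAb.shortExact) j 2 Nat.prime_two fun Y b hb => by
      obtain ⟨z, rfl⟩ := H19Grp.kernel_lift hK b (by rw [H25AbCube.comp_pow_id, hb])
      rw [← Category.comp_id z, hK₂, MonObj.comp_one, MonObj.one_comp]
  haveI : Finite H.left := by
    have h1 := H.hom.finite_preimage_singleton (IsLocalRing.closedPoint k)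
    rw [show H.hom ⁻¹' {IsLocalRing.closedPoint k} = Set.univ from
      Set.eq_univ_of_forall fun x => Subsingleton.elim (α := PrimeSpectrum k) _ _] at h1
    exact Set.finite_univ_iff.1 h1
  haveI : Finite (pt k ⟶ H) := Finite.of_injective ptOf fun a b e => eq_of_ptOf_eq e
  obtain ⟨a, rfl⟩ := H19Grp.kernel_lift hH g hf
  obtain ⟨c, hc, hac⟩ := isOfFinOrder_iff_pow_eq_one.1 (isOfFinOrder_of_finite a)
  refine torsion_inj f h (isOfFinOrder_iff_pow_eq_one.2 ⟨c, hc, ?_⟩) hf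
  rw [← MonObj.pow_comp, hac, MonObj.one_comp]

theorem fG_mono : Mono f.fG := by
  haveI := (motive_separated N).1
  haveI := semiAb_smooth M.semiAb
  obtain ⟨H, _, j, hj, hjcl, hH⟩ := H19Grp.AffineQuotient.exists_kernel f.fG
  haveI := hj
  haveI := hjcl
  haveI : Mono j := Over.mono_of_mono_left j
  haveI : LocallyOfFiniteType H.hom := by rw [← Over.w j]; infer_instance
  haveI := H19Grp.smooth_of_charZero H
  haveI : IsSeparated H.hom := H19Grp.AffineQuotient.isSeparated_of_grp H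
  have hH1 : (𝟙 H : H ⟶ H) = 1 := hom_ext_pt fun a => by
    rw [Category.comp_id, MonObj.comp_one, ← cancel_mono j, MonObj.one_comp]
    refine fG_inj_pts f h ?_
    rw [Category.assoc, H19Grp.kernel_comp_eq_one hH, MonObj.comp_one]
  refine ⟨fun {W} a b e => ?_⟩
  obtain ⟨z, hz⟩ := H19Grp.kernel_lift hH (a * b⁻¹) (by
    rw [MonObj.mul_comp, GrpObj.inv_comp, e, mul_inv_cancel])
  rw [← Category.comp_id z, hH1, MonObj.comp_one, MonObj.one_comp] at hz
  exact mul_inv_eq_one.1 hz.symm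

theorem torsion_surj {z : pt k ⟶ N.G} (hz : IsOfFinOrder z) : ∃ g : pt k ⟶ M.G, g ≫ f.fG = z := by
  obtain ⟨r, ⟨φ⟩⟩ := exists_lattice_pts N.lattice
  let ψ : (pt k ⟶ N.L) →* (pt k ⟶ N.G) := MonoidHom.mk' (fun y => y ≫ N.u) fun a b => MonObj.mul_comp a b _
  let F : (pt k ⟶ M.G) →* (pt k ⟶ N.G) := MonoidHom.mk' (fun g => g ≫ f.fG) fun a b => MonObj.mul_comp a b _
  refine MonoidHom.mem_range.1 (mem_of_fg_of_divisible φ ψ F.range
    (fun z _ n hn => semiAb_divisible N.semiAb hn z) (fun z hz => ?_) hz)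
  obtain ⟨m, hm, hzm⟩ := isOfFinOrder_iff_pow_eq_one.1 hz
  obtain ⟨x, g, w, -, -, hw⟩ := exists_preimage f m (h m hm).2 1 z (by rw [MonObj.one_comp, hzm, inv_one])
  refine ⟨w⁻¹, g⁻¹, ?_⟩
  show g⁻¹ ≫ f.fG = (w⁻¹ ≫ N.u) * z⁻¹
  rw [GrpObj.inv_comp, GrpObj.inv_comp, hw, mul_inv_cancel_right]

theorem fG_surjective : Surjective f.fG.left := by
  haveI := semiAb_smooth M.semiAb
  haveI := semiAb_quasiCompact M.semiAb
  haveI := (motive_separated N).1
  haveI : QuasiCompact (f.fG.left ≫ N.G.hom) := by rw [Over.w]; infer_instance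
  haveI : QuasiCompact f.fG.left := QuasiCompact.of_comp _ N.G.hom
  refine H19Grp.surjective_of_dense_hom f.fG ((semiAb_dense_torsion N.semiAb).mono ?_)
  rintro _ ⟨z, hz, rfl⟩
  rw [Set.mem_ofPred_eq] at hz
  obtain ⟨g, hg⟩ := torsion_surj f h hz
  exact ⟨ptOf g, (ptOf_comp g f.fG).symm.trans (congrArg ptOf hg)⟩

theorem fG_isIso : IsIso f.fG := by
  haveI := semiAb_smooth M.semiAb
  haveI := semiAb_smooth N.semiAb
  haveI := semiAb_quasiCompact M.semiAb
  haveI := (motive_separated N).1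
  haveI : IsReduced N.G.left := H13AlgSp.isReduced_of_smooth_mor N.G.hom
  haveI := fG_surjective f h
  haveI := fG_mono f h
  haveI : QuasiCompact (f.fG.left ≫ N.G.hom) := by rw [Over.w]; infer_instance
  haveI : QuasiCompact f.fG.left := QuasiCompact.of_comp _ N.G.hom
  haveI : Flat f.fG.left := H19Grp.flat_of_surjective_isAlgClosed f.fG
  haveI : Mono f.fG.left := Over.mono_left_of_mono f.fG
  haveI : IsIso f.fG.left := Flat.isIso_of_surjective_of_mono _
  haveI : IsIso ((Over.forget _).map f.fG) := ‹IsIso f.fG.left›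
  exact isIso_of_reflects_iso f.fG (Over.forget _)

theorem fL_isIso : IsIso f.fL := by
  haveI := fG_isIso f h
  refine isIso_of_bijective_lattice M.lattice N.lattice f.fL ⟨fun a b e => ?_, ?_⟩
  · have hx : (a * b⁻¹) ≫ f.fL = 1 := by
      rw [MonObj.mul_comp, GrpObj.inv_comp, show a ≫ f.fL = b ≫ f.fL from e, mul_inv_cancel]
    have hu : (a * b⁻¹) ≫ M.u = 1 := by
      rw [← cancel_mono f.fG, Category.assoc, f.comm, ← Category.assoc, hx, MonObj.one_comp, MonObj.one_comp]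
    refine mul_inv_eq_one.1 (lattice_eq_one_of_divisible M.lattice fun m hm => ?_)
    obtain ⟨y, hy, -⟩ := exists_of_map_eq_one f m (h m (Nat.pos_of_ne_zero hm)).1 _ 1
      (by rw [hu, one_pow, inv_one]) hx (MonObj.one_comp _)
    exact ⟨y, hy⟩
  · let F : (pt k ⟶ M.L) →* (pt k ⟶ N.L) := MonoidHom.mk' (fun x => x ≫ f.fL) fun a b => MonObj.mul_comp a b _
    obtain ⟨r, ⟨φ⟩⟩ := exists_lattice_pts N.lattice
    have htop : F.range = ⊤ := eq_top_of_divisible φ F.range fun y m hm => by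
      obtain ⟨h₀, hh₀⟩ := semiAb_divisible N.semiAb (Nat.pos_of_ne_zero hm) (y ≫ N.u)⁻¹
      obtain ⟨x, g, w, -, hw, -⟩ := exists_preimage f m (h m (Nat.pos_of_ne_zero hm)).2 y h₀
        (by rw [hh₀, _root_.inv_inv])
      refine ⟨w⁻¹, x, ?_⟩
      show x ≫ f.fL = w⁻¹ ^ m * y
      rw [inv_pow, hw, _root_.mul_inv_rev, _root_.inv_inv, _root_.mul_comm y⁻¹, inv_mul_cancel_right]
    exact MonoidHom.range_eq_top.1 htop

end Groth.Agent.H26OneMot
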